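import Cfsg.Agent.Lib.Involutions.BrauerSuzuki
import Cfsg.Agent.Lib.NormalPComplement.Frobenius
import Cfsg.Agent.Lib.Cores.PCore

/-!
# Isolated elements, central 2-subgroups, centric pairs
-/

set_option autoImplicit false
set_option linter.style.haveILetI false
open Cfsg

namespace CfsgLib.GWApps.HalfClasses

universe u

variable {G : Type u} [Group G] [Finite G]

/-- Dividing by a central 2-subgroup keeps the odd core trivial. -/
theorem oddCore_quotient_eq_bot (hO : Cfsg.oddCore G = ⊥) (Z : Subgroup G) [Z.Normal]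
    (hc : Z ≤ Subgroup.center G) (hZ : IsPGroup 2 Z) : Cfsg.oddCore (G ⧸ Z) = ⊥ := by
  haveI : Fact (Nat.Prime 2) := ⟨Nat.prime_two⟩
  set ρ := QuotientGroup.mk' Z with hρ
  have hρs : Function.Surjective ρ := QuotientGroup.mk'_surjective Z
  obtain ⟨e, he⟩ := IsPGroup.iff_card.1 hZ
  refine CfsgLib.Cores.oddCore_eq_bot_iff.2 fun N hN ho => ?_
  set M := N.comap ρ with hM
  haveI : M.Normal := hN.comap ρ
  have hZM : Z ≤ M := by
    intro z hz
    show ρ z ∈ N
    rw [hρ, QuotientGroup.mk'_apply, (QuotientGroup.eq_one_iff z).2 hz]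
    exact one_mem N
  have hidx : (Z.subgroupOf M).index = Nat.card N := by
    have h2 : (ρ.comp M.subtype).ker = Z.subgroupOf M := by
      rw [← MonoidHom.comap_ker, QuotientGroup.ker_mk']; rfl
    rw [← h2, Subgroup.index_ker, MonoidHom.range_comp, Subgroup.range_subtype, hM,
      Subgroup.map_comap_eq_self_of_surjective hρs]
  have hcard2 : Nat.card (Z.subgroupOf M) = 2 ^ e :=
    (Nat.card_congr (Subgroup.subgroupOfEquivOfLe hZM).toEquiv).trans he
  have hcop : Nat.Coprime (2 ^ e) (Nat.card N) := (Nat.coprime_two_left.2 ho).pow_left e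
  obtain ⟨K, hK⟩ := Subgroup.exists_left_complement'_of_coprime (N := Z.subgroupOf M)
    (by rw [hcard2, hidx]; exact hcop)
  have hKcard : Nat.card K = Nat.card N := by
    have := hK.index_eq_card
    rw [hidx] at this; exact this.symm
  have hmem : ∀ m : M, m ∈ K ↔ m ^ Nat.card N = 1 := by
    intro m
    refine ⟨fun hm => ?_, fun hm => ?_⟩
    · have := congrArg Subtype.val (pow_card_eq_one' (G := K) (x := ⟨m, hm⟩))
      rwa [SubmonoidClass.coe_pow, OneMemClass.coe_one, hKcard] at this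
    · obtain ⟨⟨⟨k, hk⟩, ⟨z, hz⟩⟩, hkz⟩ := hK.2 m
      have he' : k * z = m := hkz
      subst he'
      have hcz : Commute k z := Subtype.ext
        (Subgroup.mem_center_iff.1 (hc (Subgroup.mem_subgroupOf.1 hz)) (k : G))
      have hkN : k ^ Nat.card N = 1 := by
        have := congrArg Subtype.val (pow_card_eq_one' (G := K) (x := ⟨k, hk⟩))
        rwa [SubmonoidClass.coe_pow, OneMemClass.coe_one, hKcard] at this
      rw [hcz.mul_pow, hkN, one_mul] at hm
      have hz2 : z ^ 2 ^ e = 1 := by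
        have := congrArg Subtype.val (pow_card_eq_one' (G := Z.subgroupOf M) (x := ⟨z, hz⟩))
        rwa [SubmonoidClass.coe_pow, OneMemClass.coe_one, hcard2] at this
      have : z = 1 := by
        rw [← orderOf_eq_one_iff]
        exact Nat.eq_one_of_dvd_coprimes hcop
          (orderOf_dvd_of_pow_eq_one hz2) (orderOf_dvd_of_pow_eq_one hm)
      rw [this, mul_one]; exact hk
  haveI : (K.map M.subtype).Normal := by
    constructor
    rintro _ ⟨k, hk, rfl⟩ g
    refine ⟨⟨g * k * g⁻¹, Subgroup.Normal.conj_mem inferInstance _ k.2 g⟩, ?_, rfl⟩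
    refine (hmem _).2 (Subtype.ext ?_)
    have := congrArg Subtype.val ((hmem k).1 hk)
    rw [SubmonoidClass.coe_pow, OneMemClass.coe_one] at this ⊢
    rw [conj_pow, this, mul_one, mul_inv_cancel]
  have hb : K.map M.subtype = ⊥ := CfsgLib.Cores.oddCore_eq_bot_iff.1 hO _ inferInstance (by
    rw [Subgroup.card_map_of_injective M.subtype_injective, hKcard]; exact ho)
  rw [Subgroup.map_eq_bot_iff_of_injective _ M.subtype_injective] at hb
  rw [hb, Subgroup.card_bot] at hKcard
  exact Subgroup.card_eq_one.1 hKcard.symm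

/-- With trivial odd core the centre is a 2-group. -/
theorem isPGroup_center (hO : Cfsg.oddCore G = ⊥) : IsPGroup 2 (Subgroup.center G) := by
  haveI : Fact (Nat.Prime 2) := ⟨Nat.prime_two⟩
  intro z
  obtain ⟨e, he⟩ := CfsgLib.NormalPComplement.exists_pow_coprime_orderOf (p := 2)
    (isOfFinOrder_of_finite (z : G))
  refine ⟨e, Subtype.ext ?_⟩
  have hc : (z : G) ^ 2 ^ e ∈ Subgroup.center G := pow_mem z.2 _
  have hn : (Subgroup.zpowers ((z : G) ^ 2 ^ e)).Normal := by
    refine ⟨fun a ha g => ?_⟩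
    have : a ∈ Subgroup.center G := Subgroup.zpowers_le.2 hc ha
    rwa [Subgroup.mem_center_iff.1 this g, mul_inv_cancel_right]
  have h := CfsgLib.Cores.oddCore_eq_bot_iff.1 hO _ hn
    (by rw [Nat.card_zpowers]; exact Nat.coprime_two_right.1 he)
  rw [SubmonoidClass.coe_pow, OneMemClass.coe_one]
  exact Subgroup.zpowers_eq_bot.1 h

/-- Isolated 2-elements forming a subgroup are central, the odd core being trivial. -/
theorem le_center_of_isolated : ∀ {G : Type u} [Group G] [Finite G], Cfsg.oddCore G = ⊥ →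
    ∀ (P : Sylow 2 G) (C : Subgroup G), C ≤ (P : Subgroup G) →
    (∀ c ∈ C, ∀ g : G, g * c * g⁻¹ ∈ (P : Subgroup G) → g * c * g⁻¹ = c) →
    C ≤ Subgroup.center G := by
  intro G _ _ hO P C hCP hiso c hc
  haveI : Fact (Nat.Prime 2) := ⟨Nat.prime_two⟩
  obtain ⟨k, hk⟩ := IsPGroup.iff_orderOf.1 P.isPGroup' ⟨c, hCP hc⟩
  rw [Subgroup.orderOf_mk] at hk
  induction k generalizing c with
  | zero =>
    rw [pow_zero, orderOf_eq_one_iff] at hk
    exact hk ▸ one_mem _
  | succ k ih =>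
    have hc2 : c ^ 2 ∈ Subgroup.center G := ih (pow_mem hc 2) (by
      rw [orderOf_pow, hk, pow_succ, Nat.gcd_eq_right (dvd_mul_left 2 _), Nat.mul_div_cancel _ two_pos])
    set N := Subgroup.zpowers (c ^ 2) with hN
    have hNc : N ≤ Subgroup.center G := Subgroup.zpowers_le.2 hc2
    haveI : N.Normal := ⟨fun a ha g => by
      rwa [Subgroup.mem_center_iff.1 (hNc ha) g, mul_inv_cancel_right]⟩
    have hNC : N ≤ C := Subgroup.zpowers_le.2 (pow_mem hc 2)
    set π := QuotientGroup.mk' N with hπ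
    have hOQ := oddCore_quotient_eq_bot hO N hNc (P.isPGroup'.to_le (hNC.trans hCP))
    set P' := P.mapSurjective (QuotientGroup.mk'_surjective N) with hP'
    have hisoQ : ∀ gb : G ⧸ N, gb * π c * gb⁻¹ ∈ (P' : Subgroup (G ⧸ N)) → gb * π c * gb⁻¹ = π c := by
      intro gb hg
      obtain ⟨g, rfl⟩ := QuotientGroup.mk'_surjective N gb
      rw [hP', Sylow.coe_mapSurjective] at hg
      obtain ⟨p, hp, hpg⟩ := hg
      rw [← map_inv, ← map_mul, ← map_mul] at hpg ⊢
      have hmem : g * c * g⁻¹ ∈ (P : Subgroup G) := by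
        have h1 : p⁻¹ * (g * c * g⁻¹) ∈ N := QuotientGroup.eq.1 hpg
        simpa using mul_mem hp ((hNC.trans hCP) h1)
      rw [hiso c hc g hmem]
    have hcen : π c ∈ Subgroup.center (G ⧸ N) := by
      by_cases h1 : π c = 1
      · rw [h1]; exact one_mem _
      · refine CfsgLib.Involutions.mem_center_of_isolated P' (orderOf_eq_prime ?_ h1) hisoQ hOQ
        rw [← map_pow]
        exact (QuotientGroup.eq_one_iff _).2 (Subgroup.mem_zpowers _)
    rw [Subgroup.mem_center_iff]
    intro g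
    have h1 : π (g * c * g⁻¹) = π c := by
      rw [map_mul, map_mul, Subgroup.mem_center_iff.1 hcen (π g), map_inv, mul_inv_cancel_right]
    have h2 : (g * c * g⁻¹)⁻¹ * c ∈ C := hNC (QuotientGroup.eq.1 h1)
    have h3 : g * c * g⁻¹ ∈ C := by simpa using mul_mem hc (inv_mem h2)
    exact mul_inv_eq_iff_eq_mul.1 (hiso c hc g (hCP h3))

/-- Without a normal 2-complement some centric 2-subgroup has a nontrivial automorphism of odd
order. -/
theorem exists_centric_pair (hno : ¬ Cfsg.HasNormalPComplement 2 G) :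
    ∃ (P : Sylow 2 G) (Q : Subgroup G) (x : G), Q ≤ (P : Subgroup G) ∧
      x ∈ Subgroup.normalizer (Q : Set G) ∧ Odd (orderOf x) ∧
      x ∉ Subgroup.centralizer (Q : Set G) ∧
      ∀ a ∈ (P : Subgroup G), a ∈ Subgroup.centralizer (Q : Set G) → a ∈ Q := by
  haveI : Fact (Nat.Prime 2) := ⟨Nat.prime_two⟩
  let S : Set (Subgroup G) := {Q | IsPGroup 2 Q ∧ ∃ x ∈ Subgroup.normalizer (Q : Set G),
    (orderOf x).Coprime 2 ∧ x ∉ Subgroup.centralizer (Q : Set G)}
  have hS : S.Nonempty := by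
    by_contra hcon
    apply hno
    rw [CfsgLib.NormalPComplement.hasNormalPComplement_iff_frobeniusCondition]
    intro Q hQ g hgN hg
    by_contra hgC
    exact hcon ⟨Q, hQ, g, hgN, hg, hgC⟩
  obtain ⟨Q, hQm⟩ := (Set.toFinite S).exists_maximal hS
  obtain ⟨hQ2, x, hxN, hx, hxC⟩ := hQm.1
  set N := Subgroup.normalizer (Q : Set G) with hN
  set φ := Q.normalizerMonoidHom with hφ
  haveI hInn : (MulAut.conj (G := Q)).range.Normal := ⟨by
    rintro _ ⟨q, rfl⟩ α
    exact ⟨α q, by ext y; simp [MulAut.conj_apply]⟩⟩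
  set K : Subgroup N := (MulAut.conj (G := Q)).range.comap φ with hK
  haveI : K.Normal := hInn.comap φ
  have hQK : Q.subgroupOf N ≤ K := fun q hq => ⟨⟨q, hq⟩, by ext y; rfl⟩
  obtain ⟨R, hR⟩ := (IsPGroup.of_equiv hQ2
    ((Subgroup.subgroupOfEquivOfLe Subgroup.le_normalizer).symm.trans
      (Subgroup.subgroupOfEquivOfLe hQK).symm)).exists_le_sylow
  set RN : Subgroup N := (R : Subgroup K).map K.subtype with hRN
  set RG : Subgroup G := RN.map N.subtype with hRG
  have hRG2 : IsPGroup 2 RG := (R.isPGroup'.map K.subtype).map N.subtype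
  have hQR : Q ≤ RG := fun q hq => by
    refine ⟨⟨q, Subgroup.le_normalizer hq⟩, ⟨⟨⟨q, Subgroup.le_normalizer hq⟩, hQK hq⟩, hR ?_, rfl⟩, rfl⟩
    rw [Subgroup.mem_subgroupOf]
    exact hq
  obtain ⟨P, hP⟩ := hRG2.exists_le_sylow
  -- `Q` is the Sylow subgroup of `K`
  have hxK : (⟨x, hxN⟩ : N) ∉ K := by
    intro hmem
    obtain ⟨q, hq⟩ := hmem
    obtain ⟨k, hk⟩ := IsPGroup.iff_orderOf.1 hQ2 q
    have h1 : orderOf (φ ⟨x, hxN⟩) ∣ 2 ^ k := by
      rw [← hq, ← hk]; exact orderOf_map_dvd _ _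
    have h2 : orderOf (φ ⟨x, hxN⟩) ∣ orderOf x := by
      have := orderOf_map_dvd φ ⟨x, hxN⟩
      rwa [Subgroup.orderOf_mk] at this
    have h3 : (⟨x, hxN⟩ : N) ∈ φ.ker :=
      orderOf_eq_one_iff.1 (Nat.eq_one_of_dvd_coprimes (hx.symm.pow_left k) h1 h2)
    rw [hφ, Subgroup.normalizerMonoidHom_ker] at h3
    exact hxC h3
  have hRQ : RG = Q := by
    by_contra hne
    have hsup := Sylow.normalizer_sup_eq_top R
    have hmem : (⟨x, hxN⟩ : N) ∈ Subgroup.normalizer (RN : Set N) ⊔ K := hsup ▸ Subgroup.mem_top _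
    obtain ⟨n, hn, k, hk, hnk⟩ := Subgroup.mem_sup_of_normal_right.1 hmem
    obtain ⟨e, he⟩ := CfsgLib.NormalPComplement.exists_pow_coprime_orderOf (p := 2)
      (isOfFinOrder_of_finite (n : G))
    set m : N := n ^ 2 ^ e with hm
    have hmN : (m : G) ∈ Subgroup.normalizer (RG : Set G) :=
      Subgroup.le_normalizer_map N.subtype ⟨m, pow_mem hn _, rfl⟩
    have hmC : (m : G) ∈ Subgroup.centralizer (Q : Set G) := by
      refine Subgroup.centralizer_le hQR ?_
      by_contra hmc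
      refine hne (le_antisymm ?_ hQR)
      exact hQm.2 ⟨hRG2, (m : G), hmN, by rwa [hm, SubmonoidClass.coe_pow], hmc⟩ hQR
    have hmK : m ∈ K := by
      refine ⟨1, ?_⟩
      rw [map_one]
      have : m ∈ φ.ker := by rw [hφ, Subgroup.normalizerMonoidHom_ker]; exact hmC
      exact this.symm
    refine hxK ?_
    have h1 : ((⟨x, hxN⟩ : N) : N ⧸ K) ^ 2 ^ e = 1 := by
      rw [← hnk, QuotientGroup.mk_mul, (QuotientGroup.eq_one_iff k).2 hk, mul_one,
        ← QuotientGroup.mk_pow, QuotientGroup.eq_one_iff]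
      exact hmK
    have h2 : orderOf ((⟨x, hxN⟩ : N) : N ⧸ K) ∣ orderOf x := by
      have := orderOf_map_dvd (QuotientGroup.mk' K) ⟨x, hxN⟩
      rwa [Subgroup.orderOf_mk] at this
    exact (QuotientGroup.eq_one_iff _).1 (orderOf_eq_one_iff.1
      (Nat.eq_one_of_dvd_coprimes (hx.symm.pow_left e) (orderOf_dvd_of_pow_eq_one h1) h2))
  refine ⟨P, Q, x, hQR.trans hP, hxN, Nat.coprime_two_right.1 hx, hxC, fun a ha haC => ?_⟩
  have haN : a ∈ N := Subgroup.centralizer_le_normalizer _ haC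
  have haK : (⟨a, haN⟩ : N) ∈ K := by
    refine ⟨1, ?_⟩
    rw [map_one]
    have : (⟨a, haN⟩ : N) ∈ φ.ker := by rw [hφ, Subgroup.normalizerMonoidHom_ker]; exact haC
    exact this.symm
  have hU : IsPGroup 2 (((P : Subgroup G).comap N.subtype).comap K.subtype) :=
    P.isPGroup'.comap_of_injective N.subtype N.subtype_injective |>.comap_of_injective K.subtype
      K.subtype_injective
  have hle : (R : Subgroup K) ≤ ((P : Subgroup G).comap N.subtype).comap K.subtype := fun r hr =>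
    hP ⟨(r : N), ⟨r, hr, rfl⟩, rfl⟩
  have hmemR : (⟨⟨a, haN⟩, haK⟩ : K) ∈ (R : Subgroup K) := by
    rw [← R.is_maximal' hU hle]
    exact ha
  exact hRQ ▸ (⟨⟨a, haN⟩, ⟨_, hmemR, rfl⟩, rfl⟩ : a ∈ RG)

end CfsgLib.GWApps.HalfClasses
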