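import Cfsg.Prelude.Def_Transfer
import Mathlib

/-!
# Counting classes of 2-elements inside a Sylow 2-subgroup

The number of classes of 2-elements is the sum over the Sylow subgroup of the reciprocals of the
sizes of the fusion classes in it.
-/

set_option autoImplicit false
set_option linter.style.haveILetI false

namespace CfsgLib.GWApps.HalfClasses

variable {G : Type*} [Group G] [Finite G]

/-- The number of elements of `P` conjugate to `a` in `G`. -/
noncomputable def mult (P : Subgroup G) (a : G) : ℕ := Nat.card {b : ↥P // IsConj a (b : G)}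

/-- The classes of 2-elements. -/
abbrev TwoClasses (G : Type*) [Group G] : Type _ :=
  {c : ConjClasses G // ∀ x ∈ c.carrier, ∃ k : ℕ, orderOf x = 2 ^ k}

theorem one_le_mult {P : Subgroup G} {a : G} (ha : a ∈ P) : 1 ≤ mult P a := by
  haveI : Nonempty {b : ↥P // IsConj a (b : G)} := ⟨⟨⟨a, ha⟩, IsConj.refl a⟩⟩
  exact Nat.card_pos

/-- `mult` bounds the number of given distinct conjugates in `P`. -/
theorem card_le_mult {P : Subgroup G} {a : G} (s : Finset G)
    (hs : ∀ b ∈ s, b ∈ P ∧ IsConj a b) : s.card ≤ mult P a := by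
  classical
  haveI := Fintype.ofFinite {b : ↥P // IsConj a (b : G)}
  rw [mult, Nat.card_eq_fintype_card, ← Fintype.card_coe s]
  refine Fintype.card_le_of_injective
    (fun b : s => (⟨⟨(b : G), (hs b b.2).1⟩, (hs b b.2).2⟩ : {b : ↥P // IsConj a (b : G)})) ?_
  intro b c h
  exact Subtype.ext (congrArg (fun q : {b : ↥P // IsConj a (b : G)} => ((q : ↥P) : G)) h)

theorem eq_of_mult_eq_one {P : Subgroup G} {a : G} (ha : a ∈ P) (h : mult P a = 1) (g : G)
    (hg : g * a * g⁻¹ ∈ P) : g * a * g⁻¹ = a := by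
  haveI : Subsingleton {b : ↥P // IsConj a (b : G)} :=
    (Nat.card_eq_one_iff_unique.1 h).1
  exact congrArg (fun q : {b : ↥P // IsConj a (b : G)} => ((q : ↥P) : G))
    (Subsingleton.elim (⟨⟨_, hg⟩, isConj_iff.2 ⟨g, rfl⟩⟩ : {b : ↥P // IsConj a (b : G)})
      ⟨⟨a, ha⟩, IsConj.refl a⟩)

/-- The reciprocals of the multiplicities add up to the number of classes of 2-elements. -/
theorem sum_inv_mult (P : Sylow 2 G) [Fintype ↥(P : Subgroup G)] :
    ∑ a : ↥(P : Subgroup G), (1 : ℚ) / mult (P : Subgroup G) (a : G) = Nat.card (TwoClasses G) := by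
  classical
  haveI := Fintype.ofFinite (TwoClasses G)
  haveI : Fact (Nat.Prime 2) := ⟨Nat.prime_two⟩
  have hmem : ∀ a : ↥(P : Subgroup G), ∀ x ∈ (ConjClasses.mk (a : G)).carrier,
      ∃ k : ℕ, orderOf x = 2 ^ k := by
    intro a x hx
    rw [ConjClasses.mem_carrier_iff_mk_eq, ConjClasses.mk_eq_mk_iff_isConj] at hx
    obtain ⟨c, hc⟩ := isConj_iff.1 hx.symm
    obtain ⟨k, hk⟩ := IsPGroup.iff_orderOf.1 P.isPGroup' a
    refine ⟨k, ?_⟩
    rw [← hc, show c * (a : G) * c⁻¹ = MulAut.conj c (a : G) from rfl, MulEquiv.orderOf_eq,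
      Subgroup.orderOf_coe, hk]
  set f : ↥(P : Subgroup G) → TwoClasses G := fun a => ⟨ConjClasses.mk (a : G), hmem a⟩ with hf
  have hsurj : Function.Surjective f := by
    rintro ⟨c, hc⟩
    obtain ⟨x, rfl⟩ := ConjClasses.exists_rep c
    obtain ⟨k, hk⟩ := hc x ConjClasses.mem_carrier_mk
    obtain ⟨Q, hQ⟩ := (IsPGroup.of_card (G := Subgroup.zpowers x) (p := 2) (n := k)
      (by rw [Nat.card_zpowers, hk])).exists_le_sylow
    obtain ⟨g, hg⟩ := MulAction.exists_smul_eq G Q P
    have hxP : g * x * g⁻¹ ∈ (P : Subgroup G) := by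
      rw [← hg, Sylow.coe_subgroup_smul]
      exact ⟨x, hQ (Subgroup.mem_zpowers x), rfl⟩
    exact ⟨⟨_, hxP⟩, Subtype.ext (ConjClasses.mk_eq_mk_iff_isConj.2 (isConj_iff.2 ⟨g, rfl⟩).symm)⟩
  rw [← Finset.sum_fiberwise Finset.univ f]
  rw [Nat.card_eq_fintype_card, ← Finset.card_univ, Finset.card_eq_sum_ones, Nat.cast_sum]
  refine Finset.sum_congr rfl fun c _ => ?_
  obtain ⟨a₀, ha₀⟩ := hsurj c
  have hcard : ∀ a : ↥(P : Subgroup G), f a = c →
      mult (P : Subgroup G) (a : G) = (Finset.univ.filter fun b => f b = c).card := by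
    intro a ha
    rw [mult, ← Fintype.card_subtype, Nat.card_eq_fintype_card]
    refine Fintype.card_congr (Equiv.subtypeEquivRight fun b => ?_)
    rw [← ha, hf]
    simp only [Subtype.mk.injEq, ConjClasses.mk_eq_mk_iff_isConj]
    exact ⟨fun h => h.symm, fun h => h.symm⟩
  rw [Finset.sum_congr rfl fun a ha => by rw [hcard a (Finset.mem_filter.1 ha).2],
    Finset.sum_const, nsmul_eq_mul, Nat.cast_one, mul_one_div_cancel]
  exact_mod_cast (Finset.card_pos.2 ⟨a₀, Finset.mem_filter.2 ⟨Finset.mem_univ _, ha₀⟩⟩).ne'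

/-- If integral weights dominate `d / mult` and their sum is at most `d` times the number of classes,
then they are exact. -/
theorem mult_mul_eq_of_weight (P : Sylow 2 G) [Fintype ↥(P : Subgroup G)] (d : ℕ)
    (w : ↥(P : Subgroup G) → ℕ) (hw : ∀ a, d ≤ w a * mult (P : Subgroup G) (a : G))
    (hsum : ∑ a, w a ≤ d * Nat.card (TwoClasses G)) :
    ∀ a, w a * mult (P : Subgroup G) (a : G) = d := by
  classical
  intro a
  have hge : ∀ b ∈ (Finset.univ : Finset ↥(P : Subgroup G)),
      (d : ℚ) * ((1 : ℚ) / mult (P : Subgroup G) (b : G)) ≤ (w b : ℚ) := by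
    intro b _
    have hpos : (0 : ℚ) < mult (P : Subgroup G) (b : G) := by exact_mod_cast one_le_mult b.2
    rw [mul_one_div, div_le_iff₀ hpos]
    exact_mod_cast hw b
  have hle : ∑ b, (w b : ℚ) ≤ ∑ b : ↥(P : Subgroup G), (d : ℚ) * ((1 : ℚ) / mult (P : Subgroup G) (b : G)) := by
    rw [← Finset.mul_sum, sum_inv_mult P]
    exact_mod_cast hsum
  have heq := (Finset.sum_eq_sum_iff_of_le hge).1 (le_antisymm (Finset.sum_le_sum hge) hle) a
    (Finset.mem_univ a)
  have hpos : (0 : ℚ) < mult (P : Subgroup G) (a : G) := by exact_mod_cast one_le_mult a.2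
  rw [mul_one_div, div_eq_iff hpos.ne'] at heq
  exact_mod_cast heq.symm

/-- If integral weights dominate `d / mult`, then they sum to at least `d` times the number of
classes. -/
theorem card_mul_le_sum (P : Sylow 2 G) [Fintype ↥(P : Subgroup G)] (d : ℕ)
    (w : ↥(P : Subgroup G) → ℕ) (hw : ∀ a, d ≤ w a * mult (P : Subgroup G) (a : G)) :
    d * Nat.card (TwoClasses G) ≤ ∑ a, w a := by
  have : ((d * Nat.card (TwoClasses G) : ℕ) : ℚ) ≤ ((∑ a, w a : ℕ) : ℚ) := by
    push_cast
    rw [← sum_inv_mult P, Finset.mul_sum]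
    refine Finset.sum_le_sum fun b _ => ?_
    have hpos : (0 : ℚ) < mult (P : Subgroup G) (b : G) := by exact_mod_cast one_le_mult b.2
    rw [mul_one_div, div_le_iff₀ hpos]
    exact_mod_cast hw b
  exact_mod_cast this

end CfsgLib.GWApps.HalfClasses
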