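import Cfsg.Agent.Lib.GWApps.HalfClasses.Count
import Cfsg.Agent.Lib.CharTheory.Linear
import Cfsg.Agent.Lib.CharTheory.Degree

/-!
# An element of odd order acting on a 2-subgroup, and classes of a 2-group
-/

set_option autoImplicit false
set_option linter.style.haveILetI false

namespace CfsgLib.GWApps.HalfClasses

variable {G : Type*} [Group G] [Finite G]

/-- The elements of `Q` commuting with `x`. -/
def fixedIn (Q : Subgroup G) (x : G) : Subgroup G := Q ⊓ Subgroup.centralizer ({x} : Set G)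

theorem mem_fixedIn {Q : Subgroup G} {x a : G} : a ∈ fixedIn Q x ↔ a ∈ Q ∧ x * a * x⁻¹ = a := by
  rw [fixedIn, Subgroup.mem_inf, Subgroup.mem_centralizer_singleton_iff, mul_inv_eq_iff_eq_mul]
  exact ⟨fun h => ⟨h.1, h.2.symm⟩, fun h => ⟨h.1, h.2.symm⟩⟩

theorem commute_of_commute_sq {x a : G} (hx : Odd (orderOf x)) (h : Commute (x ^ 2) a) :
    Commute x a := by
  obtain ⟨e, he⟩ := exists_pow_eq_self_of_coprime (n := 2) (x := x) (Nat.coprime_two_left.2 hx)
  exact he ▸ h.pow_left e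

/-- A coset of the fixed points that is stable consists of fixed points. -/
theorem mem_fixedIn_of_coset {Q : Subgroup G} (hQ : IsPGroup 2 Q) {x a c : G}
    (hx : Odd (orderOf x)) (ha : a ∈ Q) (hc : c ∈ fixedIn Q x) (h : x * a * x⁻¹ = a * c) :
    a ∈ fixedIn Q x := by
  rw [mem_fixedIn] at hc ⊢
  refine ⟨ha, ?_⟩
  have key : ∀ n : ℕ, x ^ n * a * (x ^ n)⁻¹ = a * c ^ n := by
    intro n
    induction n with
    | zero => simp
    | succ n ih =>
      have hcn : x * c ^ n * x⁻¹ = c ^ n := by rw [← conj_pow, hc.2]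
      calc x ^ (n + 1) * a * (x ^ (n + 1))⁻¹ = x * (x ^ n * a * (x ^ n)⁻¹) * x⁻¹ := by
            rw [pow_succ']; group
        _ = (x * a * x⁻¹) * (x * c ^ n * x⁻¹) := by rw [ih]; group
        _ = a * c ^ (n + 1) := by rw [h, hcn, mul_assoc, pow_succ']
  have h1 := key (orderOf x)
  rw [pow_orderOf_eq_one, one_mul, inv_one, mul_one] at h1
  have h2 : c ^ orderOf x = 1 := (mul_eq_left.1 h1.symm)
  obtain ⟨k, hk⟩ := IsPGroup.iff_orderOf.1 hQ ⟨c, hc.1⟩
  rw [Subgroup.orderOf_mk] at hk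
  have h3 : c = 1 := orderOf_eq_one_iff.1 (Nat.eq_one_of_dvd_coprimes
    ((Nat.coprime_two_left.2 hx).pow_left k) (hk ▸ dvd_rfl) (orderOf_dvd_of_pow_eq_one h2))
  rw [h, h3, mul_one]

theorem mem_fixedIn_of_coset_sq {Q : Subgroup G} (hQ : IsPGroup 2 Q) {x a c : G}
    (hx : Odd (orderOf x)) (ha : a ∈ Q) (hc : c ∈ fixedIn Q x)
    (h : x ^ 2 * a * (x ^ 2)⁻¹ = a * c) : a ∈ fixedIn Q x := by
  have hx2 : Odd (orderOf (x ^ 2)) := hx.of_dvd_nat (orderOf_pow_dvd 2)
  have hc' : c ∈ fixedIn Q (x ^ 2) := by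
    rw [mem_fixedIn] at hc ⊢
    exact ⟨hc.1, mul_inv_eq_iff_eq_mul.2 ((show Commute x c from mul_inv_eq_iff_eq_mul.1 hc.2).pow_left 2).eq⟩
  have h1 := (mem_fixedIn.1 (mem_fixedIn_of_coset hQ hx2 ha hc' h)).2
  exact mem_fixedIn.2 ⟨ha, mul_inv_eq_iff_eq_mul.2
    (commute_of_commute_sq hx (mul_inv_eq_iff_eq_mul.1 h1)).eq⟩

/-- The first three images of a moved element are different. -/
theorem three_conjugates {Q : Subgroup G} {x a : G} (hx : Odd (orderOf x)) (ha : a ∈ Q)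
    (haC : a ∉ fixedIn Q x) :
    a ≠ x * a * x⁻¹ ∧ a ≠ x ^ 2 * a * (x ^ 2)⁻¹ ∧ x * a * x⁻¹ ≠ x ^ 2 * a * (x ^ 2)⁻¹ := by
  have h1 : a ≠ x * a * x⁻¹ := fun h => haC (mem_fixedIn.2 ⟨ha, h.symm⟩)
  refine ⟨h1, fun h => h1 ?_, fun h => h1 ?_⟩
  · exact (mul_inv_eq_iff_eq_mul.2 (commute_of_commute_sq hx (mul_inv_eq_iff_eq_mul.1 h.symm)).eq).symm
  · have h' : x * a * x⁻¹ = x * (x * a * x⁻¹) * x⁻¹ := h.trans (by rw [pow_two]; group)
    have := mul_left_cancel (mul_right_cancel h')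
    exact this

/-- The fixed points have index at least four. -/
theorem four_mul_card_fixedIn_le {Q : Subgroup G} (hQ : IsPGroup 2 Q) {x : G}
    (hxN : x ∈ Subgroup.normalizer (Q : Set G)) (hx : Odd (orderOf x))
    (hmove : ∃ a ∈ Q, a ∉ fixedIn Q x) : 4 * Nat.card (fixedIn Q x) ≤ Nat.card Q := by
  haveI : Fact (Nat.Prime 2) := ⟨Nat.prime_two⟩
  obtain ⟨a, ha, haC⟩ := hmove
  set K := (fixedIn Q x).subgroupOf Q with hK
  have hle : fixedIn Q x ≤ Q := inf_le_left
  have hcard := K.card_mul_index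
  rw [hK, Nat.card_congr (Subgroup.subgroupOfEquivOfLe hle).toEquiv] at hcard
  obtain ⟨j, hj⟩ := hQ.index K
  rw [← hcard, ← hK, hj, mul_comm 4]
  refine Nat.mul_le_mul_left _ ?_
  rcases j with - | - | j
  · exfalso
    rw [pow_zero, Subgroup.index_eq_one] at hj
    exact haC (Subgroup.mem_subgroupOf.1 (hj ▸ Subgroup.mem_top (⟨a, ha⟩ : Q)))
  · exfalso
    rw [zero_add, pow_one] at hj
    set b := x * a * x⁻¹ with hb
    have hbQ : b ∈ Q := (Subgroup.mem_normalizer_iff.1 hxN a).1 ha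
    have hbC : b ∉ fixedIn Q x := fun h => by
      have h2 := (mem_fixedIn.1 h).2
      have h3 : b = a := mul_left_cancel (mul_right_cancel (h2.trans hb))
      exact haC (h3 ▸ h)
    have h4 := (Subgroup.mul_mem_iff_of_index_two hj (a := (⟨a, ha⟩ : Q)⁻¹) (b := ⟨b, hbQ⟩)).2
      (by simp only [inv_mem_iff, hK, Subgroup.mem_subgroupOf]; exact iff_of_false haC hbC)
    exact haC (mem_fixedIn_of_coset hQ hx ha (Subgroup.mem_subgroupOf.1 h4)
      (by push_cast; rw [mul_inv_cancel_left]))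
  · calc 4 = 2 ^ 2 := rfl
      _ ≤ 2 ^ (j + 1 + 1) := Nat.pow_le_pow_right two_pos (by omega)

/-- In the abelian case of index four, squares are fixed. -/
theorem sq_mem_fixedIn {Q : Subgroup G} (hQ : IsPGroup 2 Q) {x : G}
    (hxN : x ∈ Subgroup.normalizer (Q : Set G)) (hx : Odd (orderOf x))
    (hcomm : ∀ a ∈ Q, ∀ b ∈ Q, a * b = b * a) (hcard : Nat.card Q = 4 * Nat.card (fixedIn Q x))
    {a : G} (ha : a ∈ Q) : a ^ 2 ∈ fixedIn Q x := by
  by_contra hsq
  set K := (fixedIn Q x).subgroupOf Q with hK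
  haveI : K.Normal := ⟨fun k hk g => by
    have : g * k * g⁻¹ = k := Subtype.ext (by
      push_cast; rw [hcomm _ g.2 _ k.2, mul_inv_cancel_right])
    rwa [this]⟩
  have hle : fixedIn Q x ≤ Q := inf_le_left
  have h4 : Nat.card (Q ⧸ K) = 4 := by
    have h1 := Subgroup.card_eq_card_quotient_mul_card_subgroup K
    have h2 : Nat.card K = Nat.card (fixedIn Q x) :=
      Nat.card_congr (Subgroup.subgroupOfEquivOfLe hle).toEquiv
    rw [h2, hcard] at h1
    exact (Nat.eq_of_mul_eq_mul_right Nat.card_pos h1).symm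
  set a' : Q := ⟨a, ha⟩ with ha'
  set b' : Q := ⟨x * a * x⁻¹, (Subgroup.mem_normalizer_iff.1 hxN a).1 ha⟩ with hb'
  set π := QuotientGroup.mk' K with hπ
  have hg2 : π a' ^ 2 ≠ 1 := fun h => hsq (by
    rw [← map_pow] at h
    exact Subgroup.mem_subgroupOf.1 ((QuotientGroup.eq_one_iff _).1 h))
  have hg4 : π a' ^ 4 = 1 := h4 ▸ pow_card_eq_one'
  have hord : orderOf (π a') = 4 := orderOf_eq_prime_pow (p := 2) (n := 1) (by simpa using hg2)
    (by simpa using hg4)
  have htop : Subgroup.zpowers (π a') = ⊤ :=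
    Subgroup.eq_top_of_card_eq _ (by rw [Nat.card_zpowers, hord, h4])
  obtain ⟨i, hi⟩ := Subgroup.mem_zpowers_iff.1 (htop ▸ Subgroup.mem_top (π b'))
  have h24 : ∀ j : ℤ, (π a') ^ (4 * j) = 1 := fun j => by
    rw [zpow_mul, show π a' ^ (4 : ℤ) = π a' ^ (4 : ℕ) by norm_cast, hg4, one_zpow]
  have hconj : ((b' ^ 2 : Q) : G) = x * a ^ 2 * x⁻¹ := by rw [SubmonoidClass.coe_pow, ← conj_pow]
  rcases Int.even_or_odd' i with ⟨j, rfl | rfl⟩
  · have h1 : π (b' ^ 2) = 1 := by
      rw [map_pow, ← hi, pow_two, ← zpow_add, show 2 * j + 2 * j = 4 * j by ring, h24]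
    have h2 := mem_fixedIn.1 (Subgroup.mem_subgroupOf.1 ((QuotientGroup.eq_one_iff _).1 h1))
    rw [hconj] at h2
    have h3 : x * a ^ 2 * x⁻¹ = a ^ 2 := mul_left_cancel (mul_right_cancel h2.2)
    exact hsq (mem_fixedIn.2 ⟨pow_mem ha 2, h3⟩)
  · have h1 : π (a' ^ 2) = π (b' ^ 2) := by
      rw [map_pow, map_pow, ← hi, pow_two, pow_two, ← zpow_add,
        show 2 * j + 1 + (2 * j + 1) = 4 * j + 2 by ring, zpow_add, h24, one_mul]
      simp [pow_two]
    have h2 : ((a' ^ 2)⁻¹ * b' ^ 2 : Q) ∈ K := QuotientGroup.eq.1 h1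
    refine hsq (mem_fixedIn_of_coset hQ hx (pow_mem ha 2) (Subgroup.mem_subgroupOf.1 h2) ?_)
    rw [Subgroup.coe_mul, Subgroup.coe_inv, SubmonoidClass.coe_pow, hconj, mul_inv_cancel_left]

/-- A finite group whose derived group has order at least 4 has fewer than half as many classes as
elements. -/
theorem two_mul_card_conjClasses_lt {P : Type*} [Group P] [Finite P]
    (h : 4 ≤ Nat.card (commutator P)) :
    2 * Nat.card (ConjClasses P) < Nat.card P := by
  classical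
  haveI := Fintype.ofFinite (Cfsg.IrrCharacter P)
  let deg : Cfsg.IrrCharacter P → ℕ := fun χ =>
    Classical.choose (CfsgLib.CharTheory.IsIrrCharacter.exists_degree_dvd χ.2)
  have hdeg : ∀ χ, 0 < deg χ ∧ deg χ ∣ Nat.card P ∧ (χ : P → ℂ) 1 = deg χ := fun χ =>
    Classical.choose_spec (CfsgLib.CharTheory.IsIrrCharacter.exists_degree_dvd χ.2)
  have hsum : ∑ χ, deg χ ^ 2 = Nat.card P := by
    have h1 := CfsgLib.CharTheory.sum_degree_sq (G := P)
    simp only [(hdeg _).2.2] at h1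
    exact_mod_cast h1
  have hlin : (Finset.univ.filter fun χ => deg χ = 1).card = (commutator P).index := by
    rw [← CfsgLib.CharTheory.card_linear, Nat.card_eq_fintype_card, Fintype.card_subtype]
    congr 1
    ext χ
    simp only [Finset.mem_filter, Finset.mem_univ, true_and, (hdeg χ).2.2, Nat.cast_eq_one]
  have hterm : ∀ χ, 4 ≤ deg χ ^ 2 + if deg χ = 1 then 3 else 0 := by
    intro χ
    split_ifs with h1
    · simp [h1]
    · have := Nat.pow_le_pow_left (show 2 ≤ deg χ by have := (hdeg χ).1; omega) 2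
      omega
  have hk : 4 * Nat.card (ConjClasses P) ≤ Nat.card P + 3 * (commutator P).index := by
    have h1 := Finset.card_nsmul_le_sum Finset.univ _ 4 fun χ _ => hterm χ
    rw [Finset.sum_add_distrib, ← Finset.sum_filter, Finset.sum_const, hsum, hlin, smul_eq_mul,
      smul_eq_mul, Finset.card_univ, ← Nat.card_eq_fintype_card,
      CfsgLib.CharTheory.card_irrCharacter] at h1
    omega
  have h2 : 4 * (commutator P).index ≤ Nat.card P := by
    calc 4 * (commutator P).index ≤ Nat.card (commutator P) * (commutator P).index :=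
          Nat.mul_le_mul_right _ h
      _ = Nat.card P := (commutator P).card_mul_index
  have : 0 < Nat.card P := Nat.card_pos
  omega

/-- There are no more classes of 2-elements than classes of a Sylow 2-subgroup. -/
theorem card_twoClasses_le_conjClasses (P : Sylow 2 G) :
    Nat.card (TwoClasses G) ≤ Nat.card (ConjClasses (P : Subgroup G)) := by
  haveI : Fact (Nat.Prime 2) := ⟨Nat.prime_two⟩
  let f : ConjClasses (P : Subgroup G) → TwoClasses G := Quotient.lift
    (fun u : (P : Subgroup G) => (⟨ConjClasses.mk (u : G), fun y hy => by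
      rw [ConjClasses.mem_carrier_iff_mk_eq, ConjClasses.mk_eq_mk_iff_isConj] at hy
      obtain ⟨g, hg⟩ := isConj_iff.1 hy.symm
      obtain ⟨k, hk⟩ := IsPGroup.iff_orderOf.1 P.isPGroup' u
      exact ⟨k, by rw [← hg, show g * (u : G) * g⁻¹ = MulAut.conj g (u : G) from rfl,
        MulEquiv.orderOf_eq, Subgroup.orderOf_coe, hk]⟩⟩ : TwoClasses G))
    (fun u v huv => Subtype.ext (ConjClasses.mk_eq_mk_iff_isConj.2
      ((P : Subgroup G).subtype.map_isConj huv)))
  refine Nat.card_le_card_of_surjective f ?_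
  rintro ⟨c, hc⟩
  obtain ⟨y, rfl⟩ := ConjClasses.exists_rep c
  obtain ⟨k, hk⟩ := hc y ConjClasses.mem_carrier_mk
  obtain ⟨S, hS⟩ := (IsPGroup.of_card (G := Subgroup.zpowers y) (p := 2) (n := k)
    (by rw [Nat.card_zpowers, hk])).exists_le_sylow
  obtain ⟨g, hg⟩ := MulAction.exists_smul_eq G S P
  have hyP : g * y * g⁻¹ ∈ (P : Subgroup G) := by
    rw [← hg, Sylow.coe_subgroup_smul]
    exact ⟨y, hS (Subgroup.mem_zpowers y), rfl⟩
  exact ⟨ConjClasses.mk ⟨_, hyP⟩,
    Subtype.ext (ConjClasses.mk_eq_mk_iff_isConj.2 (isConj_iff.2 ⟨g, rfl⟩).symm)⟩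

end CfsgLib.GWApps.HalfClasses
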