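import Cfsg.Agent.Lib.GWApps.HalfClasses.Central
import Cfsg.Agent.Lib.GWApps.HalfClasses.Pair
import Cfsg.Agent.Lib.TwoGroups.Basic

/-!
# Half as many classes of 2-elements as elements of a Sylow 2-subgroup: the local structure

Modulo the centre the Sylow 2-subgroup is a four-group, or dihedral of order 8 with two classes
of involutions.
-/

set_option autoImplicit false
set_option linter.style.haveILetI false
open Cfsg
open scoped commutatorElement

namespace CfsgLib.GWApps.HalfClasses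

universe u

variable {G : Type u} [Group G] [Finite G]

omit [Finite G] in
theorem conj_two_values {P : Subgroup G} (hc : Nat.card (commutator P) = 2) :
    ∃ z ∈ P, z ≠ 1 ∧ z * z = 1 ∧ (∀ b ∈ P, b * z = z * b) ∧
      ∀ b ∈ P, ∀ a ∈ P, b * a * b⁻¹ = a ∨ b * a * b⁻¹ = z * a := by
  haveI : Finite (commutator P) := Nat.finite_of_card_ne_zero (by omega)
  obtain ⟨z₀, hz₀, huniq⟩ := (Nat.card_eq_two_iff' (1 : commutator P)).1 hc
  have hor : ∀ c : P, c ∈ commutator P → c = 1 ∨ c = (z₀ : P) := fun c hc' => by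
    by_cases h : (⟨c, hc'⟩ : commutator P) = 1
    · exact Or.inl (congrArg Subtype.val h)
    · exact Or.inr (congrArg Subtype.val (huniq _ h))
  have hzne : (z₀ : P) ≠ 1 := fun h => hz₀ (Subtype.ext h)
  refine ⟨((z₀ : P) : G), (z₀ : P).2, fun h => hzne (Subtype.ext h), ?_, fun b hb => ?_,
    fun b hb a ha => ?_⟩
  · rcases hor _ (mul_mem z₀.2 z₀.2) with h | h
    · exact congrArg Subtype.val h
    · exact absurd (mul_eq_left.1 h) hzne
  · rcases hor _ ((inferInstance : (commutator P).Normal).conj_mem _ z₀.2 ⟨b, hb⟩) with h | h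
    · exact absurd (conj_eq_one_iff.1 h) hzne
    · exact mul_inv_eq_iff_eq_mul.1 (congrArg Subtype.val h)
  · have hcm : ⁅(⟨b, hb⟩ : P), (⟨a, ha⟩ : P)⁆ ∈ commutator P := by
      rw [commutator_def]
      exact Subgroup.commutator_mem_commutator (Subgroup.mem_top _) (Subgroup.mem_top _)
    rcases hor _ hcm with h | h
    · left
      have h1 : b * a * b⁻¹ * a⁻¹ = 1 := congrArg Subtype.val h
      exact mul_inv_eq_one.1 h1
    · right
      have h1 : b * a * b⁻¹ * a⁻¹ = ((z₀ : P) : G) := congrArg Subtype.val h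
      exact mul_inv_eq_iff_eq_mul.1 h1

/-- The data produced by the local analysis. -/
theorem local_abelian (P : Sylow 2 G) {Q : Subgroup G} {x : G} (hQP : Q ≤ (P : Subgroup G))
    (hxN : x ∈ Subgroup.normalizer (Q : Set G)) (hx : Odd (orderOf x))
    (hxC : x ∉ Subgroup.centralizer (Q : Set G))
    (hcent : ∀ a ∈ (P : Subgroup G), a ∈ Subgroup.centralizer (Q : Set G) → a ∈ Q)
    (hab : ∀ a ∈ (P : Subgroup G), ∀ b ∈ (P : Subgroup G), a * b = b * a)
    (hk : 2 * Nat.card (TwoClasses G) = Nat.card (P : Subgroup G)) :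
    ∃ C : Subgroup G, C ≤ (P : Subgroup G) ∧ Nat.card (P : Subgroup G) = 4 * Nat.card C ∧
      (∀ a ∈ (P : Subgroup G), a ^ 2 ∈ C) ∧
      ∀ a ∈ (P : Subgroup G), (a ∈ C ↔ mult (P : Subgroup G) a = 1) := by
  classical
  haveI := Fintype.ofFinite ↥(P : Subgroup G)
  obtain rfl : Q = (P : Subgroup G) := le_antisymm hQP fun a ha => hcent a ha
    (Subgroup.mem_centralizer_iff.2 fun q hq => hab q (hQP hq) a ha)
  set C := fixedIn (P : Subgroup G) x with hC
  have hCP : C ≤ (P : Subgroup G) := inf_le_left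
  have hmove : ∃ a ∈ (P : Subgroup G), a ∉ C := by
    by_contra hcon
    push Not at hcon
    exact hxC (Subgroup.mem_centralizer_iff.2 fun a ha =>
      (mul_inv_eq_iff_eq_mul.1 (mem_fixedIn.1 (hcon a ha)).2).symm)
  have h4 : 4 * Nat.card C ≤ Nat.card (P : Subgroup G) :=
    four_mul_card_fixedIn_le P.isPGroup' hxN hx hmove
  let w : ↥(P : Subgroup G) → ℕ := fun a => if (a : G) ∈ C then 3 else 1
  have hw : ∀ a, 3 ≤ w a * mult (P : Subgroup G) (a : G) := by
    intro a
    have h1 := one_le_mult a.2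
    by_cases ha : (a : G) ∈ C
    · simp only [w, if_pos ha]; omega
    · simp only [w, if_neg ha, one_mul]
      obtain ⟨d1, d2, d3⟩ := three_conjugates hx a.2 ha
      have h2 := card_le_mult (P := (P : Subgroup G)) (a := (a : G))
        {(a : G), x * a * x⁻¹, x ^ 2 * a * (x ^ 2)⁻¹} (by
          simp only [Finset.mem_insert, Finset.mem_singleton]
          rintro b (rfl | rfl | rfl)
          · exact ⟨a.2, IsConj.refl _⟩
          · exact ⟨(Subgroup.mem_normalizer_iff.1 hxN _).1 a.2, isConj_iff.2 ⟨_, rfl⟩⟩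
          · exact ⟨(Subgroup.mem_normalizer_iff.1 (pow_mem hxN 2) _).1 a.2, isConj_iff.2 ⟨_, rfl⟩⟩)
      rw [Finset.card_insert_of_notMem (by simp [d1, d2]), Finset.card_pair d3] at h2
      omega
  have hsum : ∑ a, w a = Nat.card (P : Subgroup G) + 2 * Nat.card C := by
    have h1 : ∀ a, w a = 1 + 2 * if (a : G) ∈ C then 1 else 0 := fun a => by
      by_cases ha : (a : G) ∈ C <;> simp [w, ha]
    simp only [h1]
    rw [Finset.sum_add_distrib, ← Finset.mul_sum, Finset.sum_const, smul_eq_mul, mul_one,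
      Finset.card_univ, ← Nat.card_eq_fintype_card, ← Finset.card_filter,
      ← Fintype.card_subtype, ← Nat.card_eq_fintype_card]
    congr 2
    exact Nat.card_congr (Subgroup.subgroupOfEquivOfLe hCP).toEquiv
  have hge := card_mul_le_sum P 3 w hw
  have hexact := mult_mul_eq_of_weight P 3 w hw (by omega)
  have hcard : Nat.card (P : Subgroup G) = 4 * Nat.card C := by omega
  refine ⟨C, hCP, hcard, fun a ha => sq_mem_fixedIn P.isPGroup' hxN hx hab hcard ha,
    fun a ha => ?_⟩
  have h1 := hexact ⟨a, ha⟩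
  by_cases haC : a ∈ C
  · simp only [w, if_pos haC] at h1; simp only [haC, true_iff]; omega
  · simp only [w, if_neg haC] at h1; simp only [haC, false_iff]; omega

theorem local_nonabelian (P : Sylow 2 G) {Q : Subgroup G} {x : G} (hQP : Q ≤ (P : Subgroup G))
    (hxN : x ∈ Subgroup.normalizer (Q : Set G)) (hx : Odd (orderOf x))
    (hxC : x ∉ Subgroup.centralizer (Q : Set G))
    (hcent : ∀ a ∈ (P : Subgroup G), a ∈ Subgroup.centralizer (Q : Set G) → a ∈ Q)
    (hc : Nat.card (commutator (P : Subgroup G)) = 2)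
    (hk : 2 * Nat.card (TwoClasses G) = Nat.card (P : Subgroup G)) :
    ∃ C A : Subgroup G, ∃ z b : G, C ≤ A ∧ A ≤ (P : Subgroup G) ∧
      Nat.card (P : Subgroup G) = 2 * Nat.card A ∧ Nat.card A = 4 * Nat.card C ∧
      (∀ a ∈ A, a ^ 2 ∈ C) ∧
      z ∈ A ∧ z ∉ C ∧ z * z = 1 ∧ (∀ y ∈ (P : Subgroup G), y * z = z * y) ∧
      b ∈ (P : Subgroup G) ∧ b ∉ A ∧ b * b ∈ C ∧
      (∃ a ∈ A, b * a * b⁻¹ = z * a) ∧
      (∀ g : G, g * z * g⁻¹ ∈ (P : Subgroup G) → g * z * g⁻¹ ∈ A) ∧
      ∀ a ∈ (P : Subgroup G), (a ∈ C ↔ mult (P : Subgroup G) a = 1) := by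
  classical
  haveI := Fintype.ofFinite ↥(P : Subgroup G)
  obtain ⟨z, hzP, hz1, hzz, hzc, hconj⟩ := conj_two_values hc
  set C := fixedIn Q x with hC
  have hCQ : C ≤ Q := inf_le_left
  have hQ2 : IsPGroup 2 Q := P.isPGroup'.to_le hQP
  set Z := (P : Subgroup G) ⊓ Subgroup.centralizer ((P : Subgroup G) : Set G) with hZdef
  have hZP : Z ≤ (P : Subgroup G) := inf_le_left
  have hmemZ : ∀ a ∈ (P : Subgroup G), (∀ b ∈ (P : Subgroup G), b * a * b⁻¹ = a) → a ∈ Z :=
    fun a ha h => ⟨ha, Subgroup.mem_centralizer_iff.2 fun b hb => mul_inv_eq_iff_eq_mul.1 (h b hb)⟩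
  have hZQ : Z ≤ Q := fun a ha => hcent a ha.1 (Subgroup.centralizer_le hQP ha.2)
  have hzZ : z ∈ Z := ⟨hzP, Subgroup.mem_centralizer_iff.2 fun b hb => hzc b hb⟩
  have hmove : ∃ a ∈ Q, a ∉ C := by
    by_contra hcon
    push Not at hcon
    exact hxC (Subgroup.mem_centralizer_iff.2 fun a ha =>
      (mul_inv_eq_iff_eq_mul.1 (mem_fixedIn.1 (hcon a ha)).2).symm)
  have h4 : 4 * Nat.card C ≤ Nat.card Q := four_mul_card_fixedIn_le hQ2 hxN hx hmove
  have htwo : ∀ a ∈ (P : Subgroup G), a ∉ Z → a ≠ z * a ∧ z * a ∈ (P : Subgroup G) ∧ IsConj a (z * a) := by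
    intro a ha haZ
    refine ⟨fun h => hz1 (mul_eq_right.1 h.symm), mul_mem hzP ha, ?_⟩
    by_contra hcon
    refine haZ (hmemZ a ha fun b hb => (hconj b hb a ha).resolve_right fun h => hcon ?_)
    exact isConj_iff.2 ⟨b, h⟩
  have hthree : ∀ a ∈ Q, a ∉ C → ∀ s : Finset G,
      (∀ b ∈ s, b ∈ (P : Subgroup G) ∧ IsConj a b) →
      (∀ b ∈ s, b ≠ a ∧ b ≠ x * a * x⁻¹ ∧ b ≠ x ^ 2 * a * (x ^ 2)⁻¹) →
      3 + s.card ≤ mult (P : Subgroup G) a := by
    intro a ha haC s hs hne
    obtain ⟨d1, d2, d3⟩ := three_conjugates hx ha haC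
    have h2 := card_le_mult (P := (P : Subgroup G)) (a := a)
      ({a, x * a * x⁻¹, x ^ 2 * a * (x ^ 2)⁻¹} ∪ s) (by
        simp only [Finset.mem_union, Finset.mem_insert, Finset.mem_singleton]
        rintro b ((rfl | rfl | rfl) | hb)
        · exact ⟨hQP ha, IsConj.refl _⟩
        · exact ⟨hQP ((Subgroup.mem_normalizer_iff.1 hxN _).1 ha), isConj_iff.2 ⟨_, rfl⟩⟩
        · exact ⟨hQP ((Subgroup.mem_normalizer_iff.1 (pow_mem hxN 2) _).1 ha),
            isConj_iff.2 ⟨_, rfl⟩⟩
        · exact hs b hb)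
    rw [Finset.card_union_of_disjoint (Finset.disjoint_left.2 fun b hb hbs => by
        simp only [Finset.mem_insert, Finset.mem_singleton] at hb
        obtain ⟨e1, e2, e3⟩ := hne b hbs
        rcases hb with h | h | h
        · exact e1 h
        · exact e2 h
        · exact e3 h),
      Finset.card_insert_of_notMem (by simp [d1, d2]), Finset.card_pair d3] at h2
    omega
  let T : G → Prop := fun a => a ∈ Q ∧ a ∉ C
  let w : ↥(P : Subgroup G) → ℕ := fun a => if T a then 2 else if (a : G) ∈ Z then 6 else 3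
  have hw : ∀ a, 6 ≤ w a * mult (P : Subgroup G) (a : G) := by
    intro a
    have h1 := one_le_mult a.2
    by_cases haT : T a
    · have := hthree _ haT.1 haT.2 ∅ (by simp) (by simp)
      simp only [w, if_pos haT]; omega
    · by_cases haZ : (a : G) ∈ Z
      · simp only [w, if_neg haT, if_pos haZ]; omega
      · obtain ⟨e1, e2, e3⟩ := htwo _ a.2 haZ
        have h2 := card_le_mult (P := (P : Subgroup G)) (a := (a : G)) {(a : G), z * a} (by
          simp only [Finset.mem_insert, Finset.mem_singleton]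
          rintro b (rfl | rfl)
          · exact ⟨a.2, IsConj.refl _⟩
          · exact ⟨e2, e3⟩)
        rw [Finset.card_pair e1] at h2
        simp only [w, if_neg haT, if_neg haZ]; omega
  -- counting
  have hcount : ∀ S : Subgroup G, S ≤ (P : Subgroup G) →
      ∑ a : ↥(P : Subgroup G), (if (a : G) ∈ S then 1 else 0) = Nat.card S := by
    intro S hS
    rw [← Finset.card_filter, ← Fintype.card_subtype, ← Nat.card_eq_fintype_card]
    exact Nat.card_congr (Subgroup.subgroupOfEquivOfLe hS).toEquiv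
  have hpt : ∀ a : ↥(P : Subgroup G), w a + (if (a : G) ∈ Q then 1 else 0) =
      3 + (if (a : G) ∈ C then 1 else 0) + 3 * (if (a : G) ∈ C ⊓ Z then 1 else 0) := by
    intro a
    by_cases haC : (a : G) ∈ C
    · have haQ := hCQ haC
      have haT : ¬ T a := fun h => h.2 haC
      by_cases haZ : (a : G) ∈ Z <;> simp [w, haT, haC, haQ, haZ, Subgroup.mem_inf]
    · by_cases haQ : (a : G) ∈ Q
      · have haT : T a := ⟨haQ, haC⟩
        simp [w, haT, haC, haQ, Subgroup.mem_inf]
      · have haT : ¬ T a := fun h => haQ h.1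
        have haZ : (a : G) ∉ Z := fun h => haQ (hZQ h)
        simp [w, haT, haC, haQ, haZ, Subgroup.mem_inf]
  have hsum : ∑ a, w a + Nat.card Q =
      3 * Nat.card (P : Subgroup G) + Nat.card C + 3 * Nat.card ↥(C ⊓ Z) := by
    rw [← hcount Q hQP, ← hcount C (hCQ.trans hQP), ← hcount (C ⊓ Z) (inf_le_right.trans hZP),
      ← Finset.sum_add_distrib]
    simp only [hpt]
    rw [Finset.sum_add_distrib, Finset.sum_add_distrib, ← Finset.mul_sum, Finset.sum_const,
      smul_eq_mul, Finset.card_univ, ← Nat.card_eq_fintype_card, mul_comm 3 (Nat.card _)]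
  have hge := card_mul_le_sum P 6 w hw
  have hCZle : Nat.card ↥(C ⊓ Z) ≤ Nat.card C := Subgroup.card_le_of_le inf_le_left
  have hexact := mult_mul_eq_of_weight P 6 w hw (by omega)
  have hQcard : Nat.card Q = 4 * Nat.card C := by omega
  have hCZ : C ≤ Z := by
    have : C ⊓ Z = C := Subgroup.eq_of_le_of_card_ge inf_le_left (by omega)
    exact this ▸ inf_le_right
  have hmult : ∀ a ∈ (P : Subgroup G), (a ∈ C → mult (P : Subgroup G) a = 1) ∧
      (a ∈ Q → a ∉ C → mult (P : Subgroup G) a = 3) ∧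
      (a ∉ Q → mult (P : Subgroup G) a = 2) := by
    intro a ha
    have h1 := hexact ⟨a, ha⟩
    refine ⟨fun haC => ?_, fun haQ haC => ?_, fun haQ => ?_⟩
    · have haT : ¬ T a := fun h => h.2 haC
      simp only [w, if_neg haT, if_pos (hCZ haC)] at h1; omega
    · have haT : T a := ⟨haQ, haC⟩
      simp only [w, if_pos haT] at h1; omega
    · have haT : ¬ T a := fun h => haQ h.1
      have haZ : (a : G) ∉ Z := fun h => haQ (hZQ h)
      simp only [w, if_neg haT, if_neg haZ] at h1; omega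
  -- `z` is moved
  have hnotall : ∀ a ∈ Q, a ∉ Z → z ∉ C := by
    intro a ha haZ hzC
    have haC : a ∉ C := fun h => haZ (hCZ h)
    obtain ⟨e1, e2, e3⟩ := htwo a (hQP ha) haZ
    have h3 := hthree a ha haC {z * a} (by
        simp only [Finset.mem_singleton]; rintro b rfl; exact ⟨e2, e3⟩) (by
      have hcom : z * a = a * z := (hzc a (hQP ha)).symm
      simp only [Finset.mem_singleton]
      rintro b rfl
      refine ⟨fun h => e1 h.symm, fun h => haC ?_, fun h => haC ?_⟩
      · exact mem_fixedIn_of_coset hQ2 hx ha hzC (h.symm.trans hcom)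
      · exact mem_fixedIn_of_coset_sq hQ2 hx ha hzC (h.symm.trans hcom))
    rw [Finset.card_singleton, (hmult a (hQP ha)).2.1 ha haC] at h3
    omega
  obtain ⟨q, hqQ, hqZ⟩ : ∃ q ∈ Q, q ∉ Z := by
    by_contra hcon
    push Not at hcon
    have hPQ : ∀ a ∈ (P : Subgroup G), a ∈ Q := fun a ha => hcent a ha
      (Subgroup.mem_centralizer_iff.2 fun r hr =>
        (Subgroup.mem_centralizer_iff.1 (hcon r hr).2 a ha).symm)
    have htriv : commutator (P : Subgroup G) = ⊥ := by
      rw [commutator_def, Subgroup.commutator_eq_bot_iff_le_centralizer]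
      intro a _
      refine Subgroup.mem_centralizer_iff.2 fun b _ => Subtype.ext ?_
      exact Subgroup.mem_centralizer_iff.1 (hcon a (hPQ a a.2)).2 b b.2
    rw [htriv, Subgroup.card_bot] at hc
    omega
  have hzC : z ∉ C := hnotall q hqQ hqZ
  have hZcard : Nat.card Z = 2 * Nat.card C := by
    obtain ⟨k, hk'⟩ := Subgroup.card_dvd_of_le hCZ
    obtain ⟨l, hl⟩ := Subgroup.card_dvd_of_le hZQ
    have hpos : 0 < Nat.card C := Nat.card_pos
    have hk1 : k ≠ 1 := fun h => hzC
      ((Subgroup.eq_of_le_of_card_ge hCZ (by rw [hk', h, mul_one])).symm ▸ hzZ)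
    have hl1 : l ≠ 1 := fun h => hqZ
      ((Subgroup.eq_of_le_of_card_ge hZQ (by rw [hl, h, mul_one])).symm ▸ hqQ)
    have hkl : k * l = 4 := Nat.eq_of_mul_eq_mul_left hpos (by
      rw [← mul_assoc, ← hk', ← hl, hQcard, mul_comm 4])
    have hk4 : k ≤ 4 := Nat.le_of_dvd (by omega) ⟨l, hkl.symm⟩
    interval_cases k <;> omega
  have hQidx : (Z.subgroupOf Q).index = 2 := by
    have h := (Z.subgroupOf Q).card_mul_index
    rw [Nat.card_congr (Subgroup.subgroupOfEquivOfLe hZQ).toEquiv, hQcard, hZcard,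
      show 4 * Nat.card C = 2 * Nat.card C * 2 by ring] at h
    exact Nat.eq_of_mul_eq_mul_left (by have : 0 < Nat.card C := Nat.card_pos; omega) h
  have hQgen : ∀ r ∈ Q, r ∈ Z ∨ q⁻¹ * r ∈ Z := by
    intro r hr
    by_cases hrZ : r ∈ Z
    · exact Or.inl hrZ
    refine Or.inr (Subgroup.mem_subgroupOf.1 ((Subgroup.mul_mem_iff_of_index_two hQidx
      (a := (⟨q, hqQ⟩ : Q)⁻¹) (b := ⟨r, hr⟩)).2 ?_))
    simp only [inv_mem_iff, Subgroup.mem_subgroupOf]
    exact iff_of_false hqZ hrZ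
  have hQcomm : ∀ a ∈ Q, ∀ b ∈ Q, a * b = b * a := by
    have hq : ∀ r ∈ Q, q * r = r * q := fun r hr => by
      rcases hQgen r hr with h | h
      · exact Subgroup.mem_centralizer_iff.1 h.2 q (hQP hqQ)
      · have := Subgroup.mem_centralizer_iff.1 h.2 q (hQP hqQ)
        calc q * r = q * (q * (q⁻¹ * r)) := by group
          _ = q * (q⁻¹ * r * q) := by rw [this]
          _ = r * q := by group
    intro a ha b hb
    rcases hQgen a ha with h | h
    · exact (Subgroup.mem_centralizer_iff.1 h.2 b (hQP hb)).symm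
    · have h1 := Subgroup.mem_centralizer_iff.1 h.2 b (hQP hb)
      calc a * b = q * (q⁻¹ * a * b) := by group
        _ = q * b * (q⁻¹ * a) := by rw [← h1]; group
        _ = b * q * (q⁻¹ * a) := by rw [hq b hb]
        _ = b * a := by group
  have hmemQ : ∀ a ∈ (P : Subgroup G), a * q * a⁻¹ = q → a ∈ Q := fun a ha h =>
    hcent a ha (Subgroup.mem_centralizer_iff.2 fun r hr => by
      rcases hQgen r hr with h' | h'
      · exact (Subgroup.mem_centralizer_iff.1 h'.2 a ha).symm
      · have h1 := Subgroup.mem_centralizer_iff.1 h'.2 a ha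
        have h2 := mul_inv_eq_iff_eq_mul.1 h
        calc r * a = q * (q⁻¹ * r * a) := by group
          _ = q * a * (q⁻¹ * r) := by rw [← h1]; group
          _ = a * q * (q⁻¹ * r) := by rw [← h2]
          _ = a * r := by group)
  have hidx : (Q.subgroupOf (P : Subgroup G)).index = 2 := by
    obtain ⟨b, hb, hbQ⟩ : ∃ b ∈ (P : Subgroup G), b ∉ Q := by
      by_contra hcon
      push Not at hcon
      exact hqZ (hmemZ q (hQP hqQ) fun b hb =>
        mul_inv_eq_iff_eq_mul.2 (hQcomm b (hcon b hb) q hqQ))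
    rw [Subgroup.index_eq_two_iff]
    refine ⟨⟨b, hb⟩, fun a => ?_⟩
    simp only [Subgroup.mem_subgroupOf, Subgroup.coe_mul]
    rw [xor_def]
    by_cases haQ : (a : G) ∈ Q
    · refine Or.inr ⟨haQ, fun h => hbQ ?_⟩
      simpa using mul_mem (inv_mem haQ) h
    · refine Or.inl ⟨hmemQ _ (mul_mem a.2 hb) ?_, haQ⟩
      have h1 := (hconj b hb q (hQP hqQ)).resolve_left fun h => hbQ (hmemQ b hb h)
      have h2 := (hconj a a.2 q (hQP hqQ)).resolve_left fun h => haQ (hmemQ a a.2 h)
      calc (a : G) * b * q * ((a : G) * b)⁻¹ = a * (b * q * b⁻¹) * (a : G)⁻¹ := by group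
        _ = ((a : G) * z * (a : G)⁻¹) * ((a : G) * q * (a : G)⁻¹) := by rw [h1]; group
        _ = q := by rw [h2, hzc a a.2, mul_inv_cancel_right, ← mul_assoc, hzz, one_mul]
  have hPcard : Nat.card (P : Subgroup G) = 2 * Nat.card Q := by
    have h := (Q.subgroupOf (P : Subgroup G)).card_mul_index
    rw [hidx, Nat.card_congr (Subgroup.subgroupOfEquivOfLe hQP).toEquiv] at h
    omega
  obtain ⟨b, hb, hbQ⟩ : ∃ b ∈ (P : Subgroup G), b ∉ Q := by
    by_contra hcon
    push Not at hcon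
    have := Subgroup.card_le_of_le (show (P : Subgroup G) ≤ Q from hcon)
    have : 0 < Nat.card Q := Nat.card_pos
    omega
  have hzQ : z ∈ Q := hZQ hzZ
  have hzfib : ∀ g : G, g * z * g⁻¹ ∈ (P : Subgroup G) → g * z * g⁻¹ ∈ Q := by
    intro g hg
    by_contra hgQ
    have h3 := hthree z hzQ hzC {g * z * g⁻¹} (by
      simp only [Finset.mem_singleton]; rintro b rfl; exact ⟨hg, isConj_iff.2 ⟨g, rfl⟩⟩) (by
      simp only [Finset.mem_singleton]
      rintro y rfl
      refine ⟨fun h => hgQ (by rw [h]; exact hzQ), fun h => hgQ ?_, fun h => hgQ ?_⟩ <;> try rw [h]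
      · exact (Subgroup.mem_normalizer_iff.1 hxN _).1 hzQ
      · exact (Subgroup.mem_normalizer_iff.1 (pow_mem hxN 2) _).1 hzQ)
    rw [Finset.card_singleton, (hmult z hzP).2.1 hzQ hzC] at h3
    omega
  have hbq : b * q * b⁻¹ = z * q :=
    (hconj b hb q (hQP hqQ)).resolve_left fun h => hbQ (hmemQ b hb h)
  have hb2 : b * b ∈ C ∨ z * (b * b) ∈ C := by
    have hb2Q : b * b ∈ Q := by
      have h := (Subgroup.mul_mem_iff_of_index_two hidx
        (a := (⟨b, hb⟩ : (P : Subgroup G))) (b := ⟨b, hb⟩)).2 Iff.rfl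
      exact Subgroup.mem_subgroupOf.1 h
    have hb2Z : b * b ∈ Z := by
      refine (hQgen _ hb2Q).resolve_right fun h => ?_
      have h1 := Subgroup.mem_centralizer_iff.1 h.2 b hb
      refine hbQ (hmemQ b hb ?_)
      calc b * q * b⁻¹ = b * (b * b) * (b * (q⁻¹ * (b * b)))⁻¹ := by group
        _ = b * (b * b) * (q⁻¹ * (b * b) * b)⁻¹ := by rw [h1]
        _ = q := by group
    have hCidx : (C.subgroupOf Z).index = 2 := by
      have h := (C.subgroupOf Z).card_mul_index
      rw [Nat.card_congr (Subgroup.subgroupOfEquivOfLe hCZ).toEquiv, hZcard, mul_comm 2] at h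
      exact Nat.eq_of_mul_eq_mul_left Nat.card_pos h
    by_cases hin : b * b ∈ C
    · exact Or.inl hin
    refine Or.inr (Subgroup.mem_subgroupOf.1 ((Subgroup.mul_mem_iff_of_index_two hCidx
      (a := (⟨z, hzZ⟩ : Z)) (b := ⟨b * b, hb2Z⟩)).2 ?_))
    simp only [Subgroup.mem_subgroupOf]
    exact iff_of_false hzC hin
  obtain ⟨b', hb', hb'Q, hb'C, hb'q⟩ : ∃ b' ∈ (P : Subgroup G), b' ∉ Q ∧ b' * b' ∈ C ∧
      b' * q * b'⁻¹ = z * q := by
    rcases hb2 with h | h
    · exact ⟨b, hb, hbQ, h, hbq⟩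
    refine ⟨q * b, mul_mem (hQP hqQ) hb, fun hin => hbQ ?_, ?_, ?_⟩
    · simpa using mul_mem (inv_mem hqQ) hin
    · have hq2 : q ^ 2 ∈ C := sq_mem_fixedIn hQ2 hxN hx hQcomm hQcard hqQ
      have : q * b * (q * b) = q ^ 2 * (z * (b * b)) := by
        calc q * b * (q * b) = q * (b * q * b⁻¹) * (b * b) := by group
          _ = q * (z * q) * (b * b) := by rw [hbq]
          _ = q * (q * z) * (b * b) := by rw [hzc q (hQP hqQ)]
          _ = q ^ 2 * (z * (b * b)) := by rw [pow_two]; group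
      rw [this]
      exact mul_mem hq2 h
    · calc q * b * q * (q * b)⁻¹ = q * (b * q * b⁻¹) * q⁻¹ := by group
        _ = q * z := by rw [hbq]; group
        _ = z * q := hzc q (hQP hqQ)
  refine ⟨C, Q, z, b', hCQ, hQP, hPcard, hQcard,
    fun a ha => sq_mem_fixedIn hQ2 hxN hx hQcomm hQcard ha, hzQ, hzC, hzz,
    fun y hy => hzc y hy, hb', hb'Q, hb'C, ⟨q, hqQ, hb'q⟩, hzfib,
    fun a ha => ⟨(hmult a ha).1, fun h => ?_⟩⟩
  by_contra haC
  by_cases haQ : a ∈ Q
  · rw [(hmult a ha).2.1 haQ haC] at h; omega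
  · rw [(hmult a ha).2.2 haQ] at h; omega

end CfsgLib.GWApps.HalfClasses
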