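import Cfsg.Agent.Lib.GWApps.HalfClasses.Local

/-!
# Half as many classes of 2-elements as elements of a Sylow 2-subgroup: the central quotient
-/

set_option autoImplicit false
set_option linter.style.haveILetI false
open Cfsg
open scoped commutatorElement

namespace CfsgLib.GWApps.HalfClasses

universe u

variable {G : Type u} [Group G] [Finite G]

/-- A normal 2-complement is impossible. -/
theorem not_hasNormalPComplement (P : Sylow 2 G) (hO : Cfsg.oddCore G = ⊥)
    (hk : 2 * Nat.card (TwoClasses G) = Nat.card (P : Subgroup G)) :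
    ¬ Cfsg.HasNormalPComplement 2 G := by
  classical
  haveI : Fact (Nat.Prime 2) := ⟨Nat.prime_two⟩
  haveI := Fintype.ofFinite ↥(P : Subgroup G)
  rintro ⟨P', N, hN, hc⟩
  haveI := hN
  have hN1 : N = ⊥ := CfsgLib.Cores.oddCore_eq_bot_iff.1 hO N inferInstance (by
    rw [← hc.index_eq_card, ← Nat.not_even_iff_odd, even_iff_two_dvd]
    exact P'.not_dvd_index)
  subst hN1
  have hPtop : (P : Subgroup G) = ⊤ := by
    refine Subgroup.eq_top_of_card_eq _ ?_
    rw [Nat.card_congr (P.equiv P').toEquiv, Subgroup.isComplement'_bot_left.1 hc,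
      Subgroup.card_top]
  by_cases h4 : 4 ≤ Nat.card (commutator (P : Subgroup G))
  · have h1 := two_mul_card_conjClasses_lt h4
    have h2 := card_twoClasses_le_conjClasses P
    omega
  obtain ⟨e, he⟩ := IsPGroup.iff_card.1 (P.isPGroup'.to_subgroup (commutator (P : Subgroup G)))
  have hsmall : Nat.card (commutator (P : Subgroup G)) = 1 ∨
      Nat.card (commutator (P : Subgroup G)) = 2 := by
    rcases e with - | - | e
    · exact Or.inl he
    · exact Or.inr he
    · exfalso; apply h4; rw [he]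
      calc 4 = 2 ^ 2 := rfl
        _ ≤ 2 ^ (e + 1 + 1) := Nat.pow_le_pow_right two_pos (by omega)
  obtain ⟨z, hz⟩ : ∃ z : G, ∀ a b : G, b * a * b⁻¹ = a ∨ b * a * b⁻¹ = z * a := by
    rcases hsmall with h | h
    · refine ⟨1, fun a b => Or.inl ?_⟩
      have hmem : ⁅(⟨b, hPtop ▸ Subgroup.mem_top b⟩ : (P : Subgroup G)),
          (⟨a, hPtop ▸ Subgroup.mem_top a⟩ : (P : Subgroup G))⁆ ∈ commutator (P : Subgroup G) := by
        rw [commutator_def]
        exact Subgroup.commutator_mem_commutator (Subgroup.mem_top _) (Subgroup.mem_top _)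
      rw [Subgroup.card_eq_one.1 h, Subgroup.mem_bot] at hmem
      have h1 : b * a * b⁻¹ * a⁻¹ = 1 := congrArg Subtype.val hmem
      exact mul_inv_eq_one.1 h1
    · obtain ⟨z, -, -, -, -, hz⟩ := conj_two_values h
      exact ⟨z, fun a b => hz b (hPtop ▸ Subgroup.mem_top b) a (hPtop ▸ Subgroup.mem_top a)⟩
  have hle : ∀ a : G, mult (P : Subgroup G) a ≤ ({a, z * a} : Finset G).card := by
    intro a
    rw [mult, ← Fintype.card_coe, ← Nat.card_eq_fintype_card]
    refine Nat.card_le_card_of_injective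
      (fun q => (⟨((q.1 : ↥(P : Subgroup G)) : G), by
        obtain ⟨g, hg⟩ := isConj_iff.1 q.2
        rw [Finset.mem_insert, Finset.mem_singleton, ← hg]
        exact hz a g⟩ : ↥({a, z * a} : Finset G))) ?_
    intro q r h
    exact Subtype.ext (Subtype.ext (congrArg (fun v : ↥({a, z * a} : Finset G) => (v : G)) h))
  have hone : mult (P : Subgroup G) 1 = 1 := by
    refine le_antisymm ?_ (one_le_mult (one_mem _))
    rw [mult]
    haveI : Subsingleton {b : ↥(P : Subgroup G) // IsConj (1 : G) (b : G)} := ⟨fun q r => by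
      apply Subtype.ext; apply Subtype.ext
      rw [isConj_one_right.1 q.2, isConj_one_right.1 r.2]⟩
    exact Finite.card_le_one_iff_subsingleton.2 inferInstance
  have hsum := sum_inv_mult P
  have hlt : ∑ _a : ↥(P : Subgroup G), (1 : ℚ) / 2 <
      ∑ a : ↥(P : Subgroup G), (1 : ℚ) / mult (P : Subgroup G) (a : G) := by
    refine Finset.sum_lt_sum (fun a _ => ?_) ⟨1, Finset.mem_univ _, ?_⟩
    · refine one_div_le_one_div_of_le (by exact_mod_cast one_le_mult a.2) ?_
      exact_mod_cast (hle _).trans (Finset.card_le_two)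
    · rw [OneMemClass.coe_one, hone]; norm_num
  rw [hsum, Finset.sum_const, Finset.card_univ, ← Nat.card_eq_fintype_card, nsmul_eq_mul, ← hk]
    at hlt
  push_cast at hlt
  linarith

theorem exists_subgroup_centre (P : Sylow 2 G) (hO : Cfsg.oddCore G = ⊥) (C : Subgroup G)
    (hCP : C ≤ (P : Subgroup G))
    (h : ∀ a ∈ (P : Subgroup G), (a ∈ C ↔ mult (P : Subgroup G) a = 1)) :
    C = Subgroup.center G := by
  haveI : Fact (Nat.Prime 2) := ⟨Nat.prime_two⟩
  refine le_antisymm (le_center_of_isolated hO P C hCP fun c hc g hg =>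
    eq_of_mult_eq_one (hCP hc) ((h c (hCP hc)).1 hc) g hg) fun a ha => ?_
  have haP : a ∈ (P : Subgroup G) :=
    (IsPGroup.le_sylow_of_normal (isPGroup_center hO) P) ha
  refine (h a haP).2 (le_antisymm ?_ (one_le_mult haP))
  rw [mult]
  haveI : Subsingleton {b : ↥(P : Subgroup G) // IsConj a (b : G)} := ⟨fun q r => by
    obtain ⟨g, hg⟩ := isConj_iff.1 q.2
    obtain ⟨g', hg'⟩ := isConj_iff.1 r.2
    rw [Subgroup.mem_center_iff.1 ha g, mul_inv_cancel_right] at hg
    rw [Subgroup.mem_center_iff.1 ha g', mul_inv_cancel_right] at hg'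
    exact Subtype.ext (Subtype.ext (hg.symm.trans hg'))⟩
  exact Finite.card_le_one_iff_subsingleton.2 inferInstance

theorem card_map_mk (Z : Subgroup G) [Z.Normal] (P : Subgroup G) (h : Z ≤ P) :
    Nat.card (P.map (QuotientGroup.mk' Z)) * Nat.card Z = Nat.card P := by
  have h2 : ((QuotientGroup.mk' Z).comp P.subtype).ker = Z.subgroupOf P := by
    rw [← MonoidHom.comap_ker, QuotientGroup.ker_mk']; rfl
  have h3 := (Z.subgroupOf P).card_mul_index
  rw [← h2, Subgroup.index_ker, MonoidHom.range_comp, Subgroup.range_subtype, h2,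
    Nat.card_congr (Subgroup.subgroupOfEquivOfLe h).toEquiv, mul_comm] at h3
  exact h3

/-- **The central quotient**: its odd core is trivial, it is not a 2-group, and its Sylow
2-subgroup is a four-group or dihedral of order 8 with two classes of involutions. -/
theorem central_quotient (P₀ : Sylow 2 G) (hO : Cfsg.oddCore G = ⊥)
    (hk₀ : 2 * Nat.card (TwoClasses G) = Nat.card (P₀ : Subgroup G)) :
    Cfsg.oddCore (G ⧸ Subgroup.center G) = ⊥ ∧ ¬ IsPGroup 2 (G ⧸ Subgroup.center G) ∧
    ∃ S : Sylow 2 (G ⧸ Subgroup.center G),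
      Nonempty ((S : Subgroup (G ⧸ Subgroup.center G)) ≃* DihedralGroup 2) ∨
      (Nonempty ((S : Subgroup (G ⧸ Subgroup.center G)) ≃* DihedralGroup 4) ∧
        ∃ u v : G ⧸ Subgroup.center G, orderOf u = 2 ∧ orderOf v = 2 ∧ ¬ IsConj u v) := by
  classical
  haveI : Fact (Nat.Prime 2) := ⟨Nat.prime_two⟩
  refine ⟨oddCore_quotient_eq_bot hO _ le_rfl (isPGroup_center hO), fun h2 => ?_, ?_⟩
  · apply not_hasNormalPComplement P₀ hO hk₀
    obtain ⟨P, hP⟩ : ∃ P : Sylow 2 G, (P : Subgroup G) = ⊤ := by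
      refine ⟨P₀, ?_⟩
      have hG : IsPGroup 2 G := by
        intro g
        obtain ⟨m, hm⟩ := h2 (g : G ⧸ Subgroup.center G)
        rw [← QuotientGroup.mk_pow, QuotientGroup.eq_one_iff] at hm
        obtain ⟨n, hn⟩ := isPGroup_center hO ⟨_, hm⟩
        exact ⟨m + n, by rw [pow_add, pow_mul]; exact congrArg Subtype.val hn⟩
      exact (P₀.is_maximal' (Q := ⊤) (hG.to_subgroup ⊤) le_top).symm
    exact ⟨P, (⊥ : Subgroup G), inferInstance, Subgroup.isComplement'_bot_left.2 hP⟩
  obtain ⟨P, Q, x, hQP, hxN, hx, hxC, hcent⟩ :=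
    exists_centric_pair (not_hasNormalPComplement P₀ hO hk₀)
  have hk : 2 * Nat.card (TwoClasses G) = Nat.card (P : Subgroup G) :=
    hk₀.trans (Nat.card_congr (P₀.equiv P).toEquiv)
  set π := QuotientGroup.mk' (Subgroup.center G) with hπ
  set S := P.mapSurjective (QuotientGroup.mk'_surjective (Subgroup.center G)) with hS
  have hScoe : (S : Subgroup (G ⧸ Subgroup.center G)) = (P : Subgroup G).map π :=
    Sylow.coe_mapSurjective _ P
  refine ⟨S, ?_⟩
  by_cases h4 : 4 ≤ Nat.card (commutator (P : Subgroup G))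
  · have h1 := two_mul_card_conjClasses_lt h4
    have h2 := card_twoClasses_le_conjClasses P
    omega
  obtain ⟨e, he⟩ := IsPGroup.iff_card.1 (P.isPGroup'.to_subgroup (commutator (P : Subgroup G)))
  rcases e with - | - | e
  · left
    have hab : ∀ a ∈ (P : Subgroup G), ∀ b ∈ (P : Subgroup G), a * b = b * a := by
      intro a ha b hb
      have hmem : ⁅(⟨a, ha⟩ : (P : Subgroup G)), (⟨b, hb⟩ : (P : Subgroup G))⁆ ∈
          commutator (P : Subgroup G) := by
        rw [commutator_def]
        exact Subgroup.commutator_mem_commutator (Subgroup.mem_top _) (Subgroup.mem_top _)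
      rw [Subgroup.card_eq_one.1 he, Subgroup.mem_bot] at hmem
      exact congrArg Subtype.val (commutatorElement_eq_one_iff_mul_comm.1 hmem)
    obtain ⟨C, hCP, hcard, hsq, hmult⟩ := local_abelian P hQP hxN hx hxC hcent hab hk
    have hC := exists_subgroup_centre P hO C hCP hmult
    subst hC
    have h4' : Nat.card (S : Subgroup (G ⧸ Subgroup.center G)) = 4 := by
      have h := card_map_mk (Subgroup.center G) (P : Subgroup G) hCP
      rw [hcard] at h
      rw [hScoe]
      exact Nat.eq_of_mul_eq_mul_right Nat.card_pos h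
    have hsq1 : ∀ s : (S : Subgroup (G ⧸ Subgroup.center G)), s ^ 2 = 1 := by
      rintro ⟨s, hs⟩
      rw [hScoe] at hs
      obtain ⟨a, ha, rfl⟩ := hs
      refine Subtype.ext ?_
      rw [SubmonoidClass.coe_pow, OneMemClass.coe_one, ← map_pow]
      exact (QuotientGroup.eq_one_iff _).2 (hsq a ha)
    haveI : IsKleinFour (S : Subgroup (G ⧸ Subgroup.center G)) :=
      { card_four := h4'
        exponent_two := by
          refine (Nat.prime_two.eq_one_or_self_of_dvd _
            (Monoid.exponent_dvd_of_forall_pow_eq_one hsq1)).resolve_left fun h => ?_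
          haveI := Monoid.exp_eq_one_iff.1 h
          rw [Nat.card_eq_one_iff_unique.2 ⟨inferInstance, inferInstance⟩] at h4'
          omega }
    exact IsKleinFour.nonempty_mulEquiv
  · right
    obtain ⟨C, A, z, b, hCA, hAP, hPA, hAC, hsq, hzA, hzC, hzz, hzc, hb, hbA, hbb, ⟨a, haA, hba⟩,
      hzfib, hmult⟩ := local_nonabelian P hQP hxN hx hxC hcent he hk
    have hC := exists_subgroup_centre P hO C (hCA.trans hAP) hmult
    subst hC
    have hmk : ∀ g : G, π g = 1 ↔ g ∈ Subgroup.center G := fun g => QuotientGroup.eq_one_iff g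
    have hA2 : π a * π a = 1 := by rw [← map_mul, hmk, ← pow_two]; exact hsq a haA
    have hB2 : π b * π b = 1 := by rw [← map_mul, hmk]; exact hbb
    have hZ2 : π z * π z = 1 := by rw [← map_mul, hzz, map_one]
    have hZ1 : π z ≠ 1 := fun h => hzC ((hmk z).1 h)
    have hBinv : (π b)⁻¹ = π b := inv_eq_of_mul_eq_one_right hB2
    have hBA : π b * π a = π z * π a * π b := by
      rw [← map_mul, ← map_mul, ← map_mul, ← hba, inv_mul_cancel_right]
    have hAZ : π a * π z = π z * π a := by rw [← map_mul, ← map_mul, hzc a (hAP haA)]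
    have hX2 : (π a * π b) ^ 2 = π z := by
      calc (π a * π b) ^ 2 = π a * (π b * π a) * π b := by rw [pow_two]; group
        _ = π z * π a * π a * (π b * π b) := by rw [hBA, ← mul_assoc, ← mul_assoc, hAZ]; group
        _ = π z := by rw [hB2, mul_one, mul_assoc, hA2, mul_one]
    set X : (S : Subgroup (G ⧸ Subgroup.center G)) :=
      ⟨π a * π b, hScoe ▸ mul_mem (Subgroup.mem_map_of_mem π (hAP haA)) (Subgroup.mem_map_of_mem π hb)⟩
      with hXdef
    set Y : (S : Subgroup (G ⧸ Subgroup.center G)) :=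
      ⟨π b, hScoe ▸ Subgroup.mem_map_of_mem π hb⟩ with hYdef
    have hXord : orderOf X = 4 := by
      rw [← Subgroup.orderOf_coe]
      refine orderOf_eq_prime_pow (p := 2) (n := 1) ?_ ?_
      · rw [pow_one, hX2]; exact hZ1
      · rw [show 2 ^ (1 + 1) = 2 * 2 from rfl, pow_mul, hX2, pow_two, hZ2]
    have hYX : Y * X * Y⁻¹ = X⁻¹ := by
      refine Subtype.ext (eq_inv_of_mul_eq_one_left ?_)
      show π b * (π a * π b) * (π b)⁻¹ * (π a * π b) = 1
      calc π b * (π a * π b) * (π b)⁻¹ * (π a * π b) = π b * (π a * π a) * π b := by group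
        _ = 1 := by rw [hA2, mul_one, hB2]
    have hY2 : Y ^ 2 = 1 := Subtype.ext (by
      rw [SubmonoidClass.coe_pow, OneMemClass.coe_one, pow_two]; exact hB2)
    have hYn : Y ∉ Subgroup.zpowers X := by
      intro h
      obtain ⟨i, hi⟩ := Subgroup.mem_zpowers_iff.1 h
      rw [← hi, ← zpow_add_one, add_comm i 1, zpow_one_add, mul_inv_cancel_right] at hYX
      have h1 : orderOf X ∣ 2 := orderOf_dvd_of_pow_eq_one (by rw [pow_two]; exact mul_eq_one_iff_eq_inv.2 hYX)
      rw [hXord] at h1
      exact absurd (Nat.le_of_dvd two_pos h1) (by norm_num)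
    have hcard : Nat.card (S : Subgroup (G ⧸ Subgroup.center G)) = 2 * 4 := by
      have h := card_map_mk (Subgroup.center G) (P : Subgroup G) (hCA.trans hAP)
      rw [hPA, hAC, ← mul_assoc] at h
      rw [hScoe]
      exact Nat.eq_of_mul_eq_mul_right Nat.card_pos h
    refine ⟨CfsgLib.TwoGroups.nonempty_mulEquiv_dihedral hXord hcard hYn hY2 hYX, π z, π b,
      orderOf_eq_prime (by rw [pow_two]; exact hZ2) hZ1,
      orderOf_eq_prime (by rw [pow_two]; exact hB2) fun h => hbA (hCA ((hmk b).1 h)), ?_⟩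
    intro hconj
    obtain ⟨gq, hg⟩ := isConj_iff.1 hconj
    obtain ⟨g, rfl⟩ := QuotientGroup.mk'_surjective _ gq
    rw [← hπ, ← map_inv, ← map_mul, ← map_mul] at hg
    have hmem : (g * z * g⁻¹)⁻¹ * b ∈ Subgroup.center G := QuotientGroup.eq.1 hg
    have hP' : g * z * g⁻¹ ∈ (P : Subgroup G) := by
      simpa using mul_mem hb (inv_mem ((hCA.trans hAP) hmem))
    have h' := mul_mem (hzfib g hP') (hCA hmem)
    rw [mul_inv_cancel_left] at h'
    exact hbA h'
  · exfalso
    apply h4
    rw [he]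
    calc 4 = 2 ^ 2 := rfl
      _ ≤ 2 ^ (e + 1 + 1) := Nat.pow_le_pow_right two_pos (by omega)

end CfsgLib.GWApps.HalfClasses
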